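import Groth.Agent.AlgSpChevLib.Basic

/-!
# Morphisms out of quasi-coherent modules from sections on an atlas
-/

set_option autoImplicit false
set_option linter.unusedSectionVars false
set_option linter.style.haveILetI false
set_option backward.isDefEq.respectTransparency false
set_option backward.isDefEq.respectTransparency.types false
set_option maxHeartbeats 400000
set_option synthInstance.maxHeartbeats 100000

universe u

open CategoryTheory CategoryTheory.Limits AlgebraicGeometry Opposite AlgSp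
open Groth.Agent
open scoped TensorProduct

noncomputable section

namespace AlgSpHomColim

open ModEtQc AlgSpCohColim AlgSpAff

variable {S : Scheme.{u}} {X : Sp S} {G F : ModEt X}

theorem res_one (M : ModEt X) {E : EtOver X} (s : sec M E) : res M (𝟙 E) s = s :=
  congrArg (fun q => q s) (M.val.presheaf.map_id _)

/-- An additive map semilinearly extending a linear map along a morphism of the site. -/
def IsExt {E Y : EtOver X} (k : Y ⟶ E) (ψ : sec G E →ₗ[Ring E] sec F E) (T : sec G Y →+ sec F Y) : Prop :=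
  ∀ (a : Ring Y) (m : sec G E), T (a • res G k m) = a • res F k (ψ m)

theorem exists_ext {E Y : EtOver X} (hG : BC G) [IsAffine E.obj.left.left] (hY : IsAffine Y.obj.left.left) (k : Y ⟶ E)
    (ψ : sec G E →ₗ[Ring E] sec F E) : ∃ T, IsExt k ψ T := by
  have hb := (isTilde_iff_evS G E).1 (hG E ‹_›) (Over.mk k) hY
  let e := AddEquiv.ofBijective (evS G (Over.mk k)) hb
  let T : sec G Y →+ sec F Y :=
    ((evS F (Over.mk k)).comp (ψ.lTensor (Ring (Over.mk k).left)).toAddMonoidHom).comp e.symm.toAddMonoidHom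
  refine ⟨T, fun a m => ?_⟩
  change evS F (Over.mk k) (ψ.lTensor _ (e.symm (a • res G k m))) = _
  rw [show e.symm (a • res G k m) = (show Ring (Over.mk k).left from a) ⊗ₜ[Ring E] m from
    e.symm_apply_eq.2 (evS_tmul G (Over.mk k) a m).symm]
  exact evS_tmul F (Over.mk k) a (ψ m)

theorem ext_induction {E Y : EtOver X} (hG : BC G) [IsAffine E.obj.left.left] (hY : IsAffine Y.obj.left.left)
    (k : Y ⟶ E) {p : sec G Y → Prop} (h0 : p 0) (hadd : ∀ x y, p x → p y → p (x + y))
    (hgen : ∀ (a : Ring Y) (m : sec G E), p (a • res G k m)) (x : sec G Y) : p x := by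
  obtain ⟨t, rfl⟩ := ((isTilde_iff_evS G E).1 (hG E ‹_›) (Over.mk k) hY).2 x
  induction t using TensorProduct.induction_on with
  | zero => rw [map_zero]; exact h0
  | tmul a m => rw [evS_tmul]; exact hgen a m
  | add s t hs ht => rw [map_add]; exact hadd _ _ hs ht

theorem ext_unique {E Y : EtOver X} (hG : BC G) [IsAffine E.obj.left.left] (hY : IsAffine Y.obj.left.left)
    {k : Y ⟶ E} {ψ : sec G E →ₗ[Ring E] sec F E} {T T' : sec G Y →+ sec F Y} (h : IsExt k ψ T) (h' : IsExt k ψ T')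
    (x : sec G Y) : T x = T' x :=
  ext_induction hG hY k (p := fun x => T x = T' x) (by rw [map_zero, map_zero])
    (fun x y hx hy => by rw [map_add, map_add, hx, hy]) (fun a m => (h a m).trans (h' a m).symm) x

theorem ext_natural {E Y Y' : EtOver X} (hG : BC G) [IsAffine E.obj.left.left] (hY : IsAffine Y.obj.left.left)
    {k : Y ⟶ E} {ψ : sec G E →ₗ[Ring E] sec F E} {T : sec G Y →+ sec F Y} (h : IsExt k ψ T) (g : Y' ⟶ Y)
    {T' : sec G Y' →+ sec F Y'} (h' : IsExt (g ≫ k) ψ T') (x : sec G Y) : T' (res G g x) = res F g (T x) :=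
  ext_induction hG hY k (p := fun x => T' (res G g x) = res F g (T x)) (by rw [map_zero, map_zero, map_zero, map_zero])
    (fun x y hx hy => by rw [map_add, map_add, map_add, map_add, hx, hy])
    (fun a m => by rw [h, res_smul, res_smul, ← res_comp, ← res_comp]; exact h' (rho g a) m) x

theorem ext_smul {E Y : EtOver X} (hG : BC G) [IsAffine E.obj.left.left] (hY : IsAffine Y.obj.left.left)
    {k : Y ⟶ E} {ψ : sec G E →ₗ[Ring E] sec F E} {T : sec G Y →+ sec F Y} (h : IsExt k ψ T) (c : Ring Y)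
    (x : sec G Y) : T (c • x) = c • T x :=
  ext_induction hG hY k (p := fun x => T (c • x) = c • T x) (by simp) (fun x y hx hy => by simp [smul_add, hx, hy])
    (fun a m => by rw [smul_smul, h, h, smul_smul]) x

variable {U : Over S} (p : (yon S).obj U ⟶ X) (hp : RepWith @Etale p) (hs : RepWith @Surjective p)
  [QuasiSeparatedSpace ↥S] [IsAffine U.left]

/-- The compatibility condition for a linear map on the atlas. -/
def Compat (ψ : sec G (E0 p hp) →ₗ[Ring (E0 p hp)] sec F (E0 p hp)) : Prop :=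
  ∀ (Y : EtOver X), IsAffine Y.obj.left.left → ∀ (k k' : Y ⟶ E0 p hp) (T : sec G Y →+ sec F Y), IsExt k ψ T →
    ∀ m, T (res G k' m) = res F k' (ψ m)

/-- Compatibility may be checked on an affine cover of the self-product of the atlas, on generators. -/
theorem compat_of_generators (hG : BC G) (ψ : sec G (E0 p hp) →ₗ[Ring (E0 p hp)] sec F (E0 p hp))
    {ι : Type*} (P : ι → EtOver X) (g : ∀ i, P i ⟶ prd p hp (E0 p hp)) (hP : ∀ i, IsAffine (P i).obj.left.left)
    (hc : ∀ x, ∃ i, x ∈ Set.range (g i).hom.left.left) (gen : Set (sec G (E0 p hp)))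
    (hgen : Submodule.span (Ring (E0 p hp)) gen = ⊤)
    (h : ∀ i, ∃ T, IsExt (g i ≫ prdk p hp (E0 p hp)) ψ T ∧
      ∀ m ∈ gen, T (res G (g i ≫ prdπ p hp (E0 p hp)) m) = res F (g i ≫ prdπ p hp (E0 p hp)) (ψ m)) :
    Compat p hp ψ := by
  haveI := isAffine_E0 p hp
  intro Y hY k k' T hT m
  let l : Y ⟶ prd p hp (E0 p hp) := prdLift p hp k' k
  have hl1 : l ≫ prdπ p hp (E0 p hp) = k' := prdLift_π p hp _ _
  have hl2 : l ≫ prdk p hp (E0 p hp) = k := prdLift_k p hp _ _
  have hc' : ∀ y, ∃ i, y ∈ Set.range (EtOver.pullbackFst l (g i)).hom.left.left := fun y => by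
    obtain ⟨i, z, hz⟩ := hc (l.hom.left.left y)
    obtain ⟨w, hw, -⟩ := Scheme.exists_preimage_of_isPullback
      ((((EtOver.isPullback l (g i)).map (EtOver.forget X)).map (Over.forget S))) y z hz.symm
    exact ⟨i, w, hw⟩
  choose κ Z q hZ hq using fun i => exists_affine_cover (EtOver.pullbackObj l (g i))
  refine ModEtQc.eq_of_cover F (fun x : Σ i, κ i => Z x.1 x.2) (fun x => q x.1 x.2 ≫ EtOver.pullbackFst l (g x.1))
    (fun y => ?_) _ _ fun x => ?_
  · obtain ⟨i, w, rfl⟩ := hc' y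
    obtain ⟨j, v, rfl⟩ := hq i w
    exact ⟨⟨i, j⟩, v, rfl⟩
  obtain ⟨i, j⟩ := x
  let a := q i j ≫ EtOver.pullbackFst l (g i)
  let b := q i j ≫ EtOver.pullbackSnd l (g i)
  have hab : a ≫ l = b ≫ g i := by
    simp only [a, b, Category.assoc]; rw [EtOver.pullback_condition]
  obtain ⟨T₁, hT₁⟩ := exists_ext hG (hZ i j) (a ≫ k) ψ
  obtain ⟨T₂, hT₂, hgen'⟩ := h i
  change res F a (T (res G k' m)) = res F a (res F k' (ψ m))
  rw [← ext_natural hG hY hT a hT₁, ← res_comp, ← res_comp]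
  have hk : a ≫ k = b ≫ g i ≫ prdk p hp (E0 p hp) := by
    rw [← hl2, ← Category.assoc, hab, Category.assoc]
  have hk' : a ≫ k' = b ≫ g i ≫ prdπ p hp (E0 p hp) := by
    rw [← hl1, ← Category.assoc, hab, Category.assoc]
  rw [hk] at hT₁
  rw [hk', res_comp G (g i ≫ prdπ p hp (E0 p hp)) b, res_comp F (g i ≫ prdπ p hp (E0 p hp)) b,
    ext_natural hG (hP i) hT₂ b hT₁]
  refine congrArg (res F b) ?_
  have hm : m ∈ Submodule.span (Ring (E0 p hp)) gen := hgen ▸ Submodule.mem_top
  induction hm using Submodule.span_induction with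
  | mem x hx => exact hgen' x hx
  | zero => simp
  | add x y _ _ hx hy => simp [map_add, hx, hy]
  | smul c x _ hx => rw [res_smul, ext_smul hG (hP i) hT₂, hx, map_smul, res_smul]

include hs in
theorem exists_cover_to_atlas (E : EtOver X) :
    ∃ (κ : Type u) (Y : κ → EtOver X) (g : ∀ i, Y i ⟶ prd p hp E),
      (∀ i, IsAffine (Y i).obj.left.left) ∧ ∀ x, ∃ i, x ∈ Set.range (g i ≫ prdπ p hp E).hom.left.left := by
  obtain ⟨κ, Y, g, hY, hc⟩ := exists_affine_cover (prd p hp E)
  refine ⟨κ, Y, g, hY, fun x => ?_⟩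
  obtain ⟨y, rfl⟩ := surjective_prdπ p hp hs E x
  obtain ⟨i, z, rfl⟩ := hc y
  exact ⟨i, z, rfl⟩

variable (G F) in
/-- The sections being compatible with all local extensions. -/
def Val (T : ∀ Y : EtOver X, IsAffine Y.obj.left.left → (Y ⟶ E0 p hp) → (sec G Y →+ sec F Y))
    (E : EtOver X) (s : sec G E) (t : sec F E) : Prop :=
  ∀ (Y : EtOver X) (hY : IsAffine Y.obj.left.left) (h : Y ⟶ E) (k : Y ⟶ E0 p hp),
    res F h t = T Y hY k (res G h s)

include hs in
theorem val_unique (T : ∀ Y : EtOver X, IsAffine Y.obj.left.left → (Y ⟶ E0 p hp) → (sec G Y →+ sec F Y))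
    (E : EtOver X) (s : sec G E) (t t' : sec F E) (h : Val G F p hp T E s t) (h' : Val G F p hp T E s t') : t = t' := by
  obtain ⟨κ, Y, g, hY, hc⟩ := exists_cover_to_atlas p hp hs E
  exact ModEtQc.eq_of_cover F Y (fun i => g i ≫ prdπ p hp E) hc _ _ fun i =>
    (h (Y i) (hY i) _ (g i ≫ prdk p hp E)).trans (h' (Y i) (hY i) _ (g i ≫ prdk p hp E)).symm

include hs in
theorem exists_val (hG : BC G) (ψ : sec G (E0 p hp) →ₗ[Ring (E0 p hp)] sec F (E0 p hp))
    (T : ∀ Y : EtOver X, IsAffine Y.obj.left.left → (Y ⟶ E0 p hp) → (sec G Y →+ sec F Y))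
    (hT : ∀ Y hY k, IsExt k ψ (T Y hY k))
    (indep : ∀ (Y : EtOver X) (hY : IsAffine Y.obj.left.left) (k k' : Y ⟶ E0 p hp) (x : sec G Y),
      T Y hY k x = T Y hY k' x) (E : EtOver X) (s : sec G E) : ∃ t, Val G F p hp T E s t := by
  haveI := isAffine_E0 p hp
  obtain ⟨κ, Y, g, hY, hc⟩ := exists_cover_to_atlas p hp hs E
  let π := fun i => g i ≫ prdπ p hp E
  let k₀ := fun i => g i ≫ prdk p hp E
  obtain ⟨t, ht⟩ := exists_glue_sec F Y π hc (fun i => T (Y i) (hY i) (k₀ i) (res G (π i) s)) fun i j => by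
    obtain ⟨ν, Z, q, hZ, hq⟩ := exists_affine_cover (EtOver.pullbackObj (π i) (π j))
    refine ModEtQc.eq_of_cover F Z q hq _ _ fun n => ?_
    let a := q n ≫ EtOver.pullbackFst (π i) (π j)
    let b := q n ≫ EtOver.pullbackSnd (π i) (π j)
    have e : a ≫ π i = b ≫ π j := by
      simp only [a, b, Category.assoc]; rw [EtOver.pullback_condition]
    rw [← res_comp, ← res_comp]
    change res F a _ = res F b _
    rw [← ext_natural hG (hY i) (hT _ _ _) a (hT (Z n) (hZ n) (a ≫ k₀ i)),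
      ← ext_natural hG (hY j) (hT _ _ _) b (hT (Z n) (hZ n) (b ≫ k₀ j)), ← res_comp, ← res_comp, e]
    exact indep _ _ _ _ _
  refine ⟨t, fun Y' hY' h k => ?_⟩
  choose ν Z q hZ hq using fun i => exists_affine_cover (EtOver.pullbackObj h (π i))
  refine ModEtQc.eq_of_cover F (fun x : Σ i, ν i => Z x.1 x.2) (fun x => q x.1 x.2 ≫ EtOver.pullbackFst h (π x.1))
    (fun y => ?_) _ _ fun x => ?_
  · obtain ⟨i, z, hz⟩ := hc (h.hom.left.left y)
    obtain ⟨w, rfl, -⟩ := Scheme.exists_preimage_of_isPullback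
      ((((EtOver.isPullback h (π i)).map (EtOver.forget X)).map (Over.forget S))) y z hz.symm
    obtain ⟨j, v, rfl⟩ := hq i w
    exact ⟨⟨i, j⟩, v, rfl⟩
  obtain ⟨i, j⟩ := x
  let a := q i j ≫ EtOver.pullbackFst h (π i)
  let b := q i j ≫ EtOver.pullbackSnd h (π i)
  have e : a ≫ h = b ≫ π i := by
    simp only [a, b, Category.assoc]; rw [EtOver.pullback_condition]
  change res F a (res F h t) = res F a (T (Y') (hY') (k) (res G h s))
  rw [← res_comp, e, res_comp, ht i, ← ext_natural hG (hY i) (hT _ _ _) b (hT (Z i j) (hZ i j) (b ≫ k₀ i)),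
    ← ext_natural hG hY' (hT _ _ _) a (hT (Z i j) (hZ i j) (a ≫ k)), ← res_comp, ← res_comp, e]
  exact indep _ _ _ _ _

include hs in
/-- A compatible linear map on the atlas extends to a morphism. -/
theorem exists_extension (hG : BC G) (ψ : sec G (E0 p hp) →ₗ[Ring (E0 p hp)] sec F (E0 p hp)) (hψ : Compat p hp ψ) :
    ∃ φ : G ⟶ F, ∀ m, appS φ (E0 p hp) m = ψ m := by
  haveI := isAffine_E0 p hp
  choose T hT using fun (x : Σ' (Y : EtOver X) (_ : IsAffine Y.obj.left.left), Y ⟶ E0 p hp) =>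
    exists_ext hG x.2.1 x.2.2 ψ
  have indep : ∀ (Y : EtOver X) (hY : IsAffine Y.obj.left.left) (k k' : Y ⟶ E0 p hp) (x : sec G Y),
      T ⟨Y, hY, k⟩ x = T ⟨Y, hY, k'⟩ x := fun Y hY k k' =>
    ext_induction hG hY k' (p := fun x => T ⟨Y, hY, k⟩ x = T ⟨Y, hY, k'⟩ x) (by rw [map_zero, map_zero])
      (fun x y hx hy => by rw [map_add, map_add, hx, hy])
      (fun a m => by rw [ext_smul hG hY (hT ⟨Y, hY, k⟩), hψ Y hY k k' _ (hT ⟨Y, hY, k⟩) m, hT ⟨Y, hY, k'⟩])
  have huniq := val_unique (G := G) (F := F) p hp hs fun Y hY k => T ⟨Y, hY, k⟩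
  have hex := exists_val p hp hs hG ψ (fun Y hY k => T ⟨Y, hY, k⟩) (fun Y hY k => hT ⟨Y, hY, k⟩) indep
  choose val hval using hex
  have hadd : ∀ (E : EtOver X) (s s' : sec G E), val E (s + s') = val E s + val E s' := fun E s s' =>
    huniq E _ _ _ (hval E _) fun Y hY h k => by
      rw [map_add, map_add, hval E s Y hY h k, hval E s' Y hY h k, map_add]
  have hsmul : ∀ (E : EtOver X) (c : Ring E) (s : sec G E), val E (c • s) = c • val E s := fun E c s =>
    huniq E _ _ _ (hval E _) fun Y hY h k => by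
      rw [res_smul, res_smul, hval E s Y hY h k, ext_smul hG hY (hT ⟨Y, hY, k⟩)]
  let α : G.val.presheaf ⟶ F.val.presheaf :=
    { app := fun E => AddCommGrpCat.ofHom (AddMonoidHom.mk' (val E.unop) (hadd E.unop))
      naturality := fun E E' g => AddCommGrpCat.hom_ext (AddMonoidHom.ext fun (s : sec G E.unop) =>
        huniq E'.unop (res G g.unop s) (val E'.unop (res G g.unop s)) (res F g.unop (val E.unop s)) (hval _ _)
          fun Y hY h k => by
            rw [← res_comp, hval E.unop s Y hY (h ≫ g.unop) k, res_comp]) }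
  refine ⟨⟨PresheafOfModules.homMk α fun E c s => hsmul E.unop c s⟩, fun m => ?_⟩
  change val (E0 p hp) m = ψ m
  have h1 := hval (E0 p hp) m (E0 p hp) (isAffine_E0 p hp) (𝟙 _) (𝟙 _)
  rw [res_one, res_one] at h1
  rw [h1]
  have h2 := hT ⟨E0 p hp, isAffine_E0 p hp, 𝟙 _⟩ 1 m
  rwa [one_smul, one_smul, res_one, res_one] at h2

end AlgSpHomColim
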