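import Groth.Agent.AlgSpHomColimLib.Extend
import Groth.Agent.AlgSpCohColimLib.Colim
import Groth.Agent.AlgSpAffLib.Coherent
import Mathlib.CategoryTheory.Limits.Types.Filtered

/-!
# Morphisms out of finitely presented modules commute with filtered colimits
-/

set_option autoImplicit false
set_option linter.unusedSectionVars false
set_option linter.style.haveILetI false
set_option backward.isDefEq.respectTransparency false
set_option backward.isDefEq.respectTransparency.types false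
set_option maxHeartbeats 400000
set_option synthInstance.maxHeartbeats 100000

universe u

open CategoryTheory CategoryTheory.Limits AlgebraicGeometry Opposite AlgSp
open Groth.Agent
open scoped TensorProduct

noncomputable section

namespace AlgSpHomColim

open ModEtQc AlgSpCohColim AlgSpAff

variable {S : Scheme.{u}} {X : Sp S} {J : Type (u + 1)} [SmallCategory J] [IsFiltered J] {D : J ⥤ ModEt X}
  {c : Cocone D} (hc : IsColimit c)

include hc in
theorem exists_sec_lift (E : EtOver X) (hE : Qcqs E) (t : sec c.pt E) :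
    ∃ (i : J) (s : sec (D.obj i) E), appS (c.ι.app i) E s = t := by
  haveI := AlgSpAff.preservesColimitsOfShape_toAbEt (X := X) J
  obtain ⟨i, s, hs⟩ := AlgSpCohColim.exists_stage_lift (isColimitOfPreserves (toAbEt X) hc) E hE t
  exact ⟨i, s, hs⟩

include hc in
theorem exists_sec_zero (E : EtOver X) (hE : CompactSpace E.obj.left.left) {i : J} (s : sec (D.obj i) E)
    (h : appS (c.ι.app i) E s = 0) : ∃ (k : J) (a : i ⟶ k), appS (D.map a) E s = 0 := by
  haveI := AlgSpAff.preservesColimitsOfShape_toAbEt (X := X) J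
  obtain ⟨k, a, ha⟩ := AlgSpCohColim.exists_stage_zero (isColimitOfPreserves (toAbEt X) hc) E hE s h
  exact ⟨k, a, ha⟩

theorem appS_map_comp {i j k : J} (a : i ⟶ j) (b : j ⟶ k) (E : EtOver X) (s : sec (D.obj i) E) :
    appS (D.map (a ≫ b)) E s = appS (D.map b) E (appS (D.map a) E s) := by
  rw [D.map_comp]; rfl

theorem appS_ι_map {i j : J} (a : i ⟶ j) (E : EtOver X) (s : sec (D.obj i) E) :
    appS (c.ι.app j) E (appS (D.map a) E s) = appS (c.ι.app i) E s :=
  congrArg (fun q => appS q E s) (c.w a)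

include hc in
theorem exists_kill {E : EtOver X} (hE : CompactSpace E.obj.left.left) {i : J} : ∀ (n : ℕ)
    (s : Fin n → sec (D.obj i) E), (∀ l, appS (c.ι.app i) E (s l) = 0) →
      ∃ (k : J) (a : i ⟶ k), ∀ l, appS (D.map a) E (s l) = 0 := by
  intro n
  induction n with
  | zero => exact fun s _ => ⟨i, 𝟙 i, fun l => l.elim0⟩
  | succ n ih =>
    intro s hs
    obtain ⟨k, a, ha⟩ := ih (fun l => s l.castSucc) fun l => hs _
    obtain ⟨k', b, hb⟩ := exists_sec_zero hc E hE (appS (D.map a) E (s (Fin.last n)))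
      (by rw [appS_ι_map]; exact hs _)
    refine ⟨k', a ≫ b, fun l => ?_⟩
    refine Fin.lastCases ?_ (fun l => ?_) l
    · rw [appS_map_comp]; exact hb
    · rw [appS_map_comp, ha l, map_zero]

include hc in
theorem exists_stage_linear (E : EtOver X) (hE : Qcqs E) (M : Type (u + 1)) [AddCommGroup M] [Module (Ring E) M]
    [Module.FinitePresentation (Ring E) M] (f : M →ₗ[Ring E] sec c.pt E) :
    ∃ (i : J) (g : M →ₗ[Ring E] sec (D.obj i) E), ∀ m, appS (c.ι.app i) E (g m) = f m := by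
  classical
  obtain ⟨n, π, hπ⟩ := Module.Finite.exists_fin' (Ring E) M
  have hker := Module.FinitePresentation.fg_ker π hπ
  choose i y hy using fun l : Fin n => exists_sec_lift hc E hE (f (π (Pi.single l 1)))
  obtain ⟨i₀, hi₀⟩ := IsFiltered.sup_objs_exists (Finset.image i Finset.univ)
  let φ : ∀ l, i l ⟶ i₀ := fun l => (hi₀ (Finset.mem_image_of_mem i (Finset.mem_univ l))).some
  let g₀ : (Fin n → Ring E) →ₗ[Ring E] sec (D.obj i₀) E :=
    Fintype.linearCombination (Ring E) fun l => appS (D.map (φ l)) E (y l)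
  have hg₀ : ∀ v, appS (c.ι.app i₀) E (g₀ v) = f (π v) := fun v => by
    refine LinearMap.congr_fun (pi_ext_lin (f := (appS (c.ι.app i₀) E).comp g₀) (g := f.comp π) fun l => ?_) v
    simp only [LinearMap.comp_apply, g₀, Fintype.linearCombination_apply_single, one_smul]
    rw [appS_ι_map, hy]
    rfl
  obtain ⟨m, w, hw⟩ := Submodule.fg_iff_exists_fin_generating_family.1 hker
  obtain ⟨k, a, ha⟩ := exists_kill hc hE.1 m (fun l => g₀ (w l)) fun l => by
    rw [hg₀, show π (w l) = 0 from LinearMap.mem_ker.1 (hw ▸ Submodule.subset_span ⟨l, rfl⟩), map_zero]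
  let g₁ := (appS (D.map a) E).comp g₀
  have hle : LinearMap.ker π ≤ LinearMap.ker g₁ := by
    rw [← hw, Submodule.span_le]
    rintro _ ⟨l, rfl⟩
    exact ha l
  refine ⟨k, ((LinearMap.ker π).liftQ g₁ hle).comp (π.quotKerEquivOfSurjective hπ).symm.toLinearMap, fun x => ?_⟩
  obtain ⟨v, rfl⟩ := hπ x
  have e : (π.quotKerEquivOfSurjective hπ).symm (π v) = Submodule.Quotient.mk v :=
    (LinearEquiv.symm_apply_eq _).2 rfl
  rw [LinearMap.comp_apply, LinearEquiv.coe_coe, e, Submodule.liftQ_apply, ← hg₀]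
  exact appS_ι_map a E _
where
  pi_ext_lin {A : Type (u + 1)} [Semiring A] {n : ℕ} {N : Type (u + 1)} [AddCommMonoid N] [Module A N]
      {f g : (Fin n → A) →ₗ[A] N} (h : ∀ l, f (Pi.single l 1) = g (Pi.single l 1)) : f = g :=
    LinearMap.pi_ext' fun l => LinearMap.ext_ring (h l)

variable {U : Over S} (p : (yon S).obj U ⟶ X) (hp : RepWith @Etale p) (hs : RepWith @Surjective p)
  (hX : IsAlgSpace X) (hqs : IsQuasiSeparatedSp X) [QuasiSeparatedSpace ↥S] [IsAffine U.left] (G : ModEt X) [G.IsFinitePresentation]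

include hp hs hc in
theorem eq_zero_of_stage {i : J} (f : G ⟶ D.obj i) (h : f ≫ c.ι.app i = 0) :
    ∃ (k : J) (a : i ⟶ k), f ≫ D.map a = 0 := by
  haveI := isAffine_E0 p hp
  have hG := bc_of_isQuasicoherent G
  haveI := finite_sec G hG (E0 p hp)
  obtain ⟨n, v, hv⟩ := Module.Finite.exists_fin (R := Ring (E0 p hp)) (M := sec G (E0 p hp))
  obtain ⟨k, a, ha⟩ := exists_kill hc (inferInstance : CompactSpace (E0 p hp).obj.left.left) n
    (fun l => appS f (E0 p hp) (v l)) fun l => congrArg (fun q => appS q (E0 p hp) (v l)) h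
  refine ⟨k, a, AlgSpChev.hom_eq_zero_of_atlas p hp hs _ hG fun s => ?_⟩
  have hm : s ∈ Submodule.span (Ring (E0 p hp)) (Set.range v) := hv ▸ Submodule.mem_top
  induction hm using Submodule.span_induction with
  | mem x hx => obtain ⟨l, rfl⟩ := hx; exact ha l
  | zero => exact map_zero _
  | add x y _ _ hx hy => rw [map_add, hx, hy, add_zero]
  | smul r x _ hx => rw [map_smul, hx, smul_zero]

include hp hs hX hc hqs in
theorem exists_stage_hom (φ : G ⟶ c.pt) : ∃ (i : J) (f : G ⟶ D.obj i), f ≫ c.ι.app i = φ := by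
  classical
  haveI := isAffine_E0 p hp
  have hG := bc_of_isQuasicoherent G
  haveI := fp_sec G (E0 p hp)
  have h0 : Qcqs (E0 p hp) := ⟨inferInstance, inferInstance⟩
  obtain ⟨i, g, hg⟩ := exists_stage_linear hc (E0 p hp) h0 (sec G (E0 p hp)) (appS φ (E0 p hp))
  obtain ⟨n, v, hv⟩ := Module.Finite.exists_fin (R := Ring (E0 p hp)) (M := sec G (E0 p hp))
  have hprd : CompactSpace (prd p hp (E0 p hp)).obj.left.left := (qcqs_prd p hp hX hqs h0).1
  haveI := hprd
  obtain ⟨m, P, q, hP, hcov⟩ := ModEtQc.exists_finite_cover (prd p hp (E0 p hp))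
  choose T hT using fun (x : Σ' (j : J) (_ : i ⟶ j), Fin m) =>
    exists_ext hG (hP x.2.2) (q x.2.2 ≫ prdk p hp (E0 p hp)) ((appS (D.map x.2.1) (E0 p hp)).comp g)
  have hnat : ∀ {j j' : J} (a : i ⟶ j) (b : j ⟶ j') (l : Fin m) (x : sec G (P l)),
      T ⟨j', a ≫ b, l⟩ x = appS (D.map b) (P l) (T ⟨j, a, l⟩ x) := fun {j j'} a b l x =>
    ext_unique hG (hP l) (hT ⟨j', a ≫ b, l⟩) (T' := ((appS (D.map b) (P l)).toAddMonoidHom.comp (T ⟨j, a, l⟩)))
      (fun r y => by
        change appS (D.map b) (P l) (T ⟨j, a, l⟩ (r • res G _ y)) = _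
        rw [hT ⟨j, a, l⟩, map_smul, appS_res]
        exact congrArg (fun z => r • res (D.obj j') _ z) (appS_map_comp a b _ (g y)).symm) x
  have hdefect : ∀ (l : Fin m) (z : Fin n), appS (c.ι.app i) (P l)
      (T ⟨i, 𝟙 i, l⟩ (res G (q l ≫ prdπ p hp (E0 p hp)) (v z)) -
        res (D.obj i) (q l ≫ prdπ p hp (E0 p hp)) (g (v z))) = 0 := fun l z => by
    rw [map_sub, sub_eq_zero, appS_res, hg]
    refine Eq.trans ?_ (appS_res φ _ (v z))
    exact ext_induction hG (hP l) (q l ≫ prdk p hp (E0 p hp))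
      (p := fun x => appS (c.ι.app i) (P l) (T ⟨i, 𝟙 i, l⟩ x) = appS φ (P l) x)
      ((congrArg (appS (c.ι.app i) (P l)) (map_zero _)).trans ((map_zero _).trans (map_zero _).symm))
      (fun x y hx hy => by rw [map_add (T ⟨i, 𝟙 i, l⟩), map_add (appS (c.ι.app i) (P l)), map_add (appS φ (P l)), hx, hy])
      (fun r y => by
        rw [hT ⟨i, 𝟙 i, l⟩, map_smul, map_smul, appS_res, appS_res]
        refine congrArg (fun w => r • res c.pt (q l ≫ prdk p hp (E0 p hp)) w) ?_
        change appS (c.ι.app i) (E0 p hp) (appS (D.map (𝟙 i)) (E0 p hp) (g y)) = _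
        rw [appS_ι_map, hg])
      (res G (q l ≫ prdπ p hp (E0 p hp)) (v z))
  have hall : ∀ k : ℕ, k ≤ m → ∃ (j : J) (a : i ⟶ j), ∀ l : Fin m, l.1 < k → ∀ z : Fin n,
      T ⟨j, a, l⟩ (res G (q l ≫ prdπ p hp (E0 p hp)) (v z)) =
        res (D.obj j) (q l ≫ prdπ p hp (E0 p hp)) (appS (D.map a) (E0 p hp) (g (v z))) := by
    intro k hk
    induction k with
    | zero => exact ⟨i, 𝟙 i, fun l hl => absurd hl (Nat.not_lt_zero _)⟩
    | succ k ih =>
      obtain ⟨j, a, ha⟩ := ih (Nat.le_of_succ_le hk)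
      let l₀ : Fin m := ⟨k, hk⟩
      haveI := hP l₀
      obtain ⟨j', b, hb⟩ := exists_kill hc (inferInstance : CompactSpace (P l₀).obj.left.left) n
        (fun z => T ⟨j, a, l₀⟩ (res G (q l₀ ≫ prdπ p hp (E0 p hp)) (v z)) -
          res (D.obj j) (q l₀ ≫ prdπ p hp (E0 p hp)) (appS (D.map a) (E0 p hp) (g (v z)))) fun z => by
        rw [show T ⟨j, a, l₀⟩ (res G (q l₀ ≫ prdπ p hp (E0 p hp)) (v z)) =
          appS (D.map a) (P l₀) (T ⟨i, 𝟙 i, l₀⟩ (res G (q l₀ ≫ prdπ p hp (E0 p hp)) (v z))) from by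
            rw [← hnat (𝟙 i) a]; generalize e : 𝟙 i ≫ a = a'; rw [Category.id_comp] at e; subst e; rfl,
          ← appS_res, ← map_sub, appS_ι_map]
        exact hdefect l₀ z
      refine ⟨j', a ≫ b, fun l hl z => ?_⟩
      rw [hnat a b l, appS_map_comp, ← appS_res]
      rcases Nat.lt_succ_iff_lt_or_eq.1 hl with h | h
      · rw [ha l h z]
      · obtain rfl : l = l₀ := Fin.ext h
        have := hb z
        rwa [map_sub, sub_eq_zero] at this
  obtain ⟨j, a, ha⟩ := hall m le_rfl
  let ψ := (appS (D.map a) (E0 p hp)).comp g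
  have hψ : Compat p hp ψ := compat_of_generators p hp hG ψ P q hP hcov (Set.range v) hv fun l =>
    ⟨T ⟨j, a, l⟩, hT ⟨j, a, l⟩, by rintro _ ⟨z, rfl⟩; exact ha l l.2 z⟩
  obtain ⟨f, hf⟩ := exists_extension p hp hs hG ψ hψ
  refine ⟨j, f, sub_eq_zero.1 (AlgSpChev.hom_eq_zero_of_atlas p hp hs _ hG fun s => ?_)⟩
  refine sub_eq_zero.2 ?_
  change appS (c.ι.app j) (E0 p hp) (appS f (E0 p hp) s) = appS φ (E0 p hp) s
  rw [hf]
  exact (appS_ι_map a _ _).trans (hg s)

include hp hs hX hqs in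
/-- Morphisms out of a finitely presented module commute with filtered colimits. -/
theorem preservesColimitsOfShape_coyoneda (J : Type (u + 1)) [SmallCategory J] [IsFiltered J] :
    PreservesColimitsOfShape J (coyoneda.obj (op G)) where
  preservesColimit {K} := ⟨fun {c} hc => ⟨Types.FilteredColimit.isColimitOf' _ _
    (fun φ => by
      obtain ⟨i, f, hf⟩ := exists_stage_hom hc p hp hs hX hqs G φ
      exact ⟨i, f, hf.symm⟩)
    (fun i (x : G ⟶ K.obj i) (y : G ⟶ K.obj i) h => by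
      have h' : (x - y : G ⟶ K.obj i) ≫ c.ι.app i = 0 := by
        rw [Preadditive.sub_comp, sub_eq_zero]; exact h
      obtain ⟨k, a, ha⟩ := eq_zero_of_stage hc p hp hs G _ h'
      rw [Preadditive.sub_comp, sub_eq_zero] at ha
      exact ⟨k, a, ha⟩)⟩⟩

end AlgSpHomColim
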